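import Mathlib
import Groth.Prelude.Def_FEt
import Groth.Agent.Lib.Helper9.FE.ClopenCrit
import Groth.Agent.Lib.Helper9.FE.TopClopen
import Groth.Agent.Lib.Helper7.Hensel.FiniteDecomp

/-! helper7: pulling back finite étale covers of a henselian local base along a proper morphism
whose geometric closed fibre is connected is fully faithful -/

open CategoryTheory CategoryTheory.Limits AlgebraicGeometry TopologicalSpace

universe u

set_option linter.style.haveILetI false
set_option linter.unusedVariables false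
set_option linter.unusedSectionVars false
set_option autoImplicit false
set_option backward.isDefEq.respectTransparency.types false
set_option synthInstance.maxHeartbeats 400000
set_option maxHeartbeats 1600000

namespace Groth.Agent.Helper7.FEtLoc

section Alg

/-- a preconnected subset of the spectrum of a finite algebra over a henselian local ring
contains at most one closed point -/
theorem maximal_unique_of_preconnected (R : Type u) [CommRing R] [HenselianLocalRing R]
    (S : Type u) [CommRing S] [Algebra R S] [Module.Finite R S] (C : Set (PrimeSpectrum S))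
    (hC : _root_.IsPreconnected C) (x₁ x₂ : PrimeSpectrum S) (h₁ : x₁ ∈ C) (h₂ : x₂ ∈ C)
    (hm₁ : x₁.asIdeal.IsMaximal) (hm₂ : x₂.asIdeal.IsMaximal) : x₁ = x₂ := by
  by_contra hne
  have hne' : x₁.asIdeal ≠ x₂.asIdeal := fun h => hne (PrimeSpectrum.ext h)
  obtain ⟨e, he, he1, he2⟩ :=
    Groth.Agent.Helper7.Hensel.exists_idempotent_mem_of_ne R S x₁.asIdeal x₂.asIdeal hne'
  have hcl : IsClopen ((PrimeSpectrum.basicOpen e : Set (PrimeSpectrum S))) :=
    PrimeSpectrum.isClopen_iff.mpr ⟨e, he, rfl⟩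
  have hx₂ : x₂ ∈ (PrimeSpectrum.basicOpen e : Set (PrimeSpectrum S)) := by
    intro hmem
    have h1 : (1 : S) ∈ x₂.asIdeal := by
      have := x₂.asIdeal.add_mem hmem he2
      rwa [add_sub_cancel] at this
    exact x₂.isPrime.ne_top ((Ideal.eq_top_iff_one _).mpr h1)
  have hsub := hC.subset_isClopen hcl ⟨x₂, h₂, hx₂⟩
  exact hsub h₁ he1

theorem exists_point_mem_closed (R : Type u) [CommRing R] [HenselianLocalRing R]
    (S : Type u) [CommRing S] [Algebra R S] [Module.Finite R S] (C : Set (PrimeSpectrum S))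
    (hC : _root_.IsPreconnected C) (hCcl : IsClosed C) (hne : C.Nonempty) :
    ∃ c₀ ∈ C, IsClosed ({c₀} : Set (PrimeSpectrum S)) ∧
      ∀ Z : Set (PrimeSpectrum S), IsClosed Z → Z ⊆ C → Z.Nonempty → c₀ ∈ Z := by
  obtain ⟨c₀, hc₀, hcl⟩ := hCcl.exists_closed_singleton hne
  refine ⟨c₀, hc₀, hcl, ?_⟩
  intro Z hZ hZC hZne
  obtain ⟨z, hz, hzcl⟩ := hZ.exists_closed_singleton hZne
  have hzc : z = c₀ := maximal_unique_of_preconnected R S C hC z c₀ (hZC hz) hc₀
    ((PrimeSpectrum.isClosed_singleton_iff_isMaximal _).mp hzcl)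
    ((PrimeSpectrum.isClosed_singleton_iff_isMaximal _).mp hcl)
  exact hzc ▸ hz

theorem transport {α β : Type*} [TopologicalSpace α] [TopologicalSpace β] (h : α ≃ₜ β)
    (H : ∀ C : Set β, _root_.IsPreconnected C → IsClosed C → C.Nonempty →
      ∃ c₀ ∈ C, IsClosed ({c₀} : Set β) ∧ ∀ Z : Set β, IsClosed Z → Z ⊆ C → Z.Nonempty → c₀ ∈ Z)
    (C : Set α) (hC : _root_.IsPreconnected C) (hCcl : IsClosed C) (hne : C.Nonempty) :
    ∃ c₀ ∈ C, IsClosed ({c₀} : Set α) ∧
      ∀ Z : Set α, IsClosed Z → Z ⊆ C → Z.Nonempty → c₀ ∈ Z := by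
  obtain ⟨c₀', hc₀', hcl', hall⟩ := H (h '' C) (hC.image h h.continuous.continuousOn)
    (h.isClosed_image.mpr hCcl) (hne.image h)
  obtain ⟨c₀, hc₀, rfl⟩ := hc₀'
  refine ⟨c₀, hc₀, ?_, ?_⟩
  · have h1 : ({c₀} : Set α) = h ⁻¹' {h c₀} := by
      ext a
      simp only [Set.mem_singleton_iff, Set.mem_preimage, EmbeddingLike.apply_eq_iff_eq]
    rw [h1]
    exact hcl'.preimage h.continuous
  · intro Z hZ hZC hZne
    obtain ⟨z, hz, hzeq⟩ := hall (h '' Z) (h.isClosed_image.mpr hZ) (Set.image_mono hZC)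
      (hZne.image h)
    exact h.injective hzeq ▸ hz

end Alg

section Sch

theorem henselianLocalRing_of_complete (A : Type u) [CommRing A] [IsLocalRing A]
    [IsAdicComplete (IsLocalRing.maximalIdeal A) A] : HenselianLocalRing A where
  is_henselian f hf a₀ h₁ h₂ :=
    (IsAdicComplete.henselianRing A (IsLocalRing.maximalIdeal A)).is_henselian f hf a₀ h₁
      (h₂.map _)

theorem exists_closedPt (R : Type u) [CommRing R] [HenselianLocalRing R] {W : Scheme.{u}}
    (w : W ⟶ Spec (CommRingCat.of R)) [IsFinite w] (C : Set W) (hC : _root_.IsPreconnected C)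
    (hCcl : IsClosed C) (hne : C.Nonempty) :
    ∃ c₀ ∈ C, IsClosed ({c₀} : Set W) ∧
      ∀ Z : Set W, IsClosed Z → Z ⊆ C → Z.Nonempty → c₀ ∈ Z := by
  haveI : IsAffine W := isAffine_of_isAffineHom w
  have h1 : w.appTop.hom.Finite :=
    ((HasAffineProperty.iff_of_isAffine (P := @IsFinite)).mp ‹IsFinite w›).2
  have h2 : ((Scheme.ΓSpecIso (CommRingCat.of R)).inv.hom).Finite :=
    RingHom.Finite.of_surjective _
      (ConcreteCategory.bijective_of_isIso (Scheme.ΓSpecIso (CommRingCat.of R)).inv).2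
  have h3 : (w.appTop.hom.comp (Scheme.ΓSpecIso (CommRingCat.of R)).inv.hom).Finite :=
    h1.comp h2
  letI : Algebra R Γ(W, ⊤) :=
    (w.appTop.hom.comp (Scheme.ΓSpecIso (CommRingCat.of R)).inv.hom).toAlgebra
  haveI : Module.Finite R Γ(W, ⊤) := h3
  exact transport (W.isoSpec.hom.homeomorph)
    (fun C' hC' hCcl' hne' => exists_point_mem_closed R Γ(W, ⊤) C' hC' hCcl' hne') C hC hCcl hne

theorem apply_eq_closedPoint (R : Type u) [CommRing R] [IsLocalRing R] {W : Scheme.{u}}
    (w : W ⟶ Spec (CommRingCat.of R)) [IsFinite w] (y : W) (hy : IsClosed ({y} : Set W)) :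
    w y = IsLocalRing.closedPoint R := by
  have h1 : IsClosed (w '' {y}) := w.isClosedMap _ hy
  rw [Set.image_singleton] at h1
  have h2 := (IsLocalRing.specializes_closedPoint (R := R) (w y)).mem_closed h1 rfl
  exact (Set.mem_singleton_iff.mp h2).symm

theorem specMap_apply_eq_closedPoint (A : Type u) [CommRing A] [IsLocalRing A] (K : Type u)
    [Field K] (φ : A →+* K) (hφ : ∀ a ∈ IsLocalRing.maximalIdeal A, φ a = 0)
    (pt : ↥(Spec (CommRingCat.of K))) :
    (Spec.map (CommRingCat.ofHom φ)) pt = IsLocalRing.closedPoint A := by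
  apply PrimeSpectrum.ext
  show Ideal.comap φ pt.asIdeal = IsLocalRing.maximalIdeal A
  have hle : IsLocalRing.maximalIdeal A ≤ Ideal.comap φ pt.asIdeal := by
    intro a ha
    rw [Ideal.mem_comap, hφ a ha]
    exact zero_mem _
  haveI := pt.isPrime
  exact ((IsLocalRing.maximalIdeal.isMaximal A).eq_of_le
    (Ideal.IsPrime.ne_top (Ideal.comap_isPrime φ pt.asIdeal)) hle).symm

/-- the fibre of `W ×_S X → W` over a closed point lying under a geometric point with
connected geometric fibre is preconnected -/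
theorem isPreconnected_fibre {S X W : Scheme.{u}} (K : Type u) [Field K] [IsAlgClosed K]
    (f : X ⟶ S) (w : W ⟶ S) [IsFinite w] (ξ : Spec (CommRingCat.of K) ⟶ S)
    [PreconnectedSpace ↥(pullback f ξ)] (c₀ : W) (hc₀ : IsClosed ({c₀} : Set W))
    (pt : ↥(Spec (CommRingCat.of K))) (hw : w c₀ = ξ pt) :
    _root_.IsPreconnected ((pullback.fst w f) ⁻¹' {c₀}) := by
  obtain ⟨q, hq⟩ : ∃ q : pullback w ξ ⟶ Spec (CommRingCat.of K), q = pullback.snd w ξ :=
    ⟨_, rfl⟩
  haveI : IsFinite q := by rw [hq]; infer_instance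
  haveI : IsAffine (pullback w ξ) := isAffine_of_isAffineHom q
  obtain ⟨z₁, hz₁, -⟩ := Scheme.Pullback.exists_preimage_pullback c₀ pt hw
  have hF : IsClosed ((pullback.fst w ξ) ⁻¹' {c₀}) :=
    hc₀.preimage (pullback.fst w ξ).continuous
  obtain ⟨z, hzF, hzcl⟩ := hF.exists_closed_singleton ⟨z₁, hz₁⟩
  obtain ⟨η, hηdef⟩ : ∃ η : Spec (CommRingCat.of K) ⟶ W,
      η = pointOfClosedPoint q z hzcl ≫ pullback.fst w ξ := ⟨_, rfl⟩
  have hη1 : η ≫ w = ξ := by
    rw [hηdef, Category.assoc, pullback.condition, ← hq, ← Category.assoc,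
      pointOfClosedPoint_comp, Category.id_comp]
  have hη2 : ∀ a, η a = c₀ := by
    intro a
    rw [hηdef, Scheme.Hom.comp_apply, pointOfClosedPoint_apply]
    exact hzF
  obtain ⟨m, hmdef⟩ : ∃ m : pullback f ξ ⟶ pullback w f,
      m = pullback.lift (pullback.snd f ξ ≫ η) (pullback.fst f ξ)
        (by rw [Category.assoc, hη1]; exact pullback.condition.symm) := ⟨_, rfl⟩
  have hm1 : m ≫ pullback.fst w f = pullback.snd f ξ ≫ η := by
    rw [hmdef]; exact pullback.lift_fst _ _ _
  have hm2 : m ≫ pullback.snd w f = pullback.fst f ξ := by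
    rw [hmdef]; exact pullback.lift_snd _ _ _
  have hpb : IsPullback m (pullback.snd f ξ) (pullback.fst w f) η := by
    refine IsPullback.of_right ?_ hm1 (IsPullback.of_hasPullback w f).flip
    rw [hm2, hη1]
    exact IsPullback.of_hasPullback f ξ
  have hrange : Set.range m = (pullback.fst w f) ⁻¹' {c₀} := by
    ext p
    constructor
    · rintro ⟨a, rfl⟩
      show (pullback.fst w f) (m a) = c₀
      rw [← Scheme.Hom.comp_apply, hm1, Scheme.Hom.comp_apply, hη2]
    · intro hp
      have hp' : (pullback.fst w f) p = η pt := by rw [hη2]; exact hp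
      obtain ⟨o, ho, -⟩ := Scheme.exists_preimage_of_isPullback hpb p pt hp'
      exact ⟨o, ho⟩
  rw [← hrange]
  exact isPreconnected_range m.continuous

/-- the preimage in `W ×_A X` of a closed preconnected subset of `W` is preconnected -/
theorem isPreconnected_preimage (A : Type u) [CommRing A] [HenselianLocalRing A] (K : Type u)
    [Field K] [IsAlgClosed K] {X W : Scheme.{u}} (f : X ⟶ Spec (CommRingCat.of A))
    [UniversallyClosed f] (w : W ⟶ Spec (CommRingCat.of A)) [IsFinite w]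
    (ξ : Spec (CommRingCat.of K) ⟶ Spec (CommRingCat.of A))
    (hξ : ∀ pt, ξ pt = IsLocalRing.closedPoint A) [PreconnectedSpace ↥(pullback f ξ)]
    (C : Set W) (hC : _root_.IsPreconnected C) (hCcl : IsClosed C) (hne : C.Nonempty) :
    _root_.IsPreconnected ((pullback.fst w f) ⁻¹' C) := by
  obtain ⟨c₀, hc₀C, hc₀cl, hall⟩ := exists_closedPt A w C hC hCcl hne
  have hwc : w c₀ = IsLocalRing.closedPoint A := apply_eq_closedPoint A w c₀ hc₀cl
  obtain ⟨pt⟩ : Nonempty ↥(Spec (CommRingCat.of K)) := inferInstance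
  have hQ₀ : _root_.IsPreconnected ((pullback.fst w f) ⁻¹' {c₀}) :=
    isPreconnected_fibre K f w ξ c₀ hc₀cl pt (by rw [hwc, hξ])
  have hQcl : IsClosed ((pullback.fst w f) ⁻¹' C) := hCcl.preimage (pullback.fst w f).continuous
  rw [isPreconnected_iff_subset_of_fully_disjoint_closed hQcl]
  intro u v hu hv huv hdisj
  by_contra hcon
  obtain ⟨hnu, hnv⟩ := not_or.mp hcon
  obtain ⟨a, haQ, hau⟩ := Set.not_subset.mp hnu
  have hav : a ∈ v := (huv haQ).resolve_left hau
  obtain ⟨b, hbQ, hbv⟩ := Set.not_subset.mp hnv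
  have hbu : b ∈ u := (huv hbQ).resolve_right hbv
  have hZu : c₀ ∈ (pullback.fst w f) '' ((pullback.fst w f) ⁻¹' C ∩ u) :=
    hall _ ((pullback.fst w f).isClosedMap _ (hQcl.inter hu))
      (by rintro _ ⟨p, ⟨hp, -⟩, rfl⟩; exact hp) ⟨_, ⟨b, ⟨hbQ, hbu⟩, rfl⟩⟩
  have hZv : c₀ ∈ (pullback.fst w f) '' ((pullback.fst w f) ⁻¹' C ∩ v) :=
    hall _ ((pullback.fst w f).isClosedMap _ (hQcl.inter hv))
      (by rintro _ ⟨p, ⟨hp, -⟩, rfl⟩; exact hp) ⟨_, ⟨a, ⟨haQ, hav⟩, rfl⟩⟩
  obtain ⟨pu, ⟨-, hpu⟩, hpu0⟩ := hZu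
  obtain ⟨pv, ⟨-, hpv⟩, hpv0⟩ := hZv
  have hQ₀sub : (pullback.fst w f) ⁻¹' {c₀} ⊆ u ∪ v := by
    intro p hp
    apply huv
    have hp' : (pullback.fst w f) p = c₀ := hp
    show (pullback.fst w f) p ∈ C
    rw [hp']
    exact hc₀C
  have hor := (isPreconnected_iff_subset_of_fully_disjoint_closed
    (hc₀cl.preimage (pullback.fst w f).continuous)).mp hQ₀ u v hu hv hQ₀sub hdisj
  rcases hor with h | h
  · exact Set.disjoint_left.mp hdisj (h hpv0) hpv
  · exact Set.disjoint_left.mp hdisj hpu (h hpu0)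

theorem clopen_inj (A : Type u) [CommRing A] [IsLocalRing A] (K : Type u) [Field K]
    {X W : Scheme.{u}} (f : X ⟶ Spec (CommRingCat.of A))
    (ξ : Spec (CommRingCat.of K) ⟶ Spec (CommRingCat.of A))
    (hξ : ∀ pt, ξ pt = IsLocalRing.closedPoint A) [Nonempty ↥(pullback f ξ)]
    (w : W ⟶ Spec (CommRingCat.of A)) (hfin : IsFinite w) (T : Set W) (hT : IsClopen T)
    (hpre : (pullback.fst w f) ⁻¹' T = Set.univ) : T = Set.univ := by
  haveI := hfin
  haveI : IsAffine W := isAffine_of_isAffineHom w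
  by_contra hne
  obtain ⟨y, hyT, hycl⟩ := hT.compl.1.exists_closed_singleton (Set.nonempty_compl.mpr hne)
  have hwy := apply_eq_closedPoint A w y hycl
  obtain ⟨a⟩ : Nonempty ↥(pullback f ξ) := inferInstance
  have hfa : f (pullback.fst f ξ a) = ξ (pullback.snd f ξ a) := by
    rw [← Scheme.Hom.comp_apply, ← Scheme.Hom.comp_apply, pullback.condition]
  obtain ⟨p, hp1, -⟩ := Scheme.Pullback.exists_preimage_pullback (f := w) (g := f) y
    (pullback.fst f ξ a) (by rw [hwy, hfa, hξ])
  have hpT : p ∈ (pullback.fst w f) ⁻¹' T := by rw [hpre]; trivial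
  apply hyT
  have h3 : (pullback.fst w f) p ∈ T := hpT
  rwa [hp1] at h3

theorem clopen_surj (A : Type u) [CommRing A] [IsNoetherianRing A] [HenselianLocalRing A]
    (K : Type u) [Field K] [IsAlgClosed K] {X W : Scheme.{u}}
    (f : X ⟶ Spec (CommRingCat.of A)) [UniversallyClosed f]
    (ξ : Spec (CommRingCat.of K) ⟶ Spec (CommRingCat.of A))
    (hξ : ∀ pt, ξ pt = IsLocalRing.closedPoint A) [PreconnectedSpace ↥(pullback f ξ)]
    (w : W ⟶ Spec (CommRingCat.of A)) (hfin : IsFinite w) (T' : Set ↥(pullback w f))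
    (hT' : IsClopen T') : ∃ T : Set W, IsClopen T ∧ (pullback.fst w f) ⁻¹' T = T' := by
  haveI := hfin
  haveI : IsAffine W := isAffine_of_isAffineHom w
  haveI : IsNoetherian W := { __ := LocallyOfFiniteType.isLocallyNoetherian w }
  refine ⟨{b | ∃ a ∈ T', (pullback.fst w f) a ∈ connectedComponent b}, ?_, ?_⟩
  · apply H9FE.isClopen_of_saturated
    rintro b ⟨a, ha, hab⟩ c hc
    refine ⟨a, ha, ?_⟩
    rw [← connectedComponent_eq hc]
    exact hab
  · ext a₁
    constructor
    · rintro ⟨a, ha, hab⟩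
      have hQ := isPreconnected_preimage A K f w ξ hξ
        (connectedComponent ((pullback.fst w f) a₁)) isPreconnected_connectedComponent
        isClosed_connectedComponent ⟨_, mem_connectedComponent⟩
      exact hQ.subset_isClopen hT' ⟨a, hab, ha⟩
        (show a₁ ∈ (pullback.fst w f) ⁻¹' _ from mem_connectedComponent)
    · intro ha₁
      exact ⟨a₁, ha₁, mem_connectedComponent⟩

theorem main (A : Type u) [CommRing A] [IsNoetherianRing A] [HenselianLocalRing A]
    (K : Type u) [Field K] [IsAlgClosed K] {X : Scheme.{u}}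
    (f : X ⟶ Spec (CommRingCat.of A)) [IsProper f]
    (ξ : Spec (CommRingCat.of K) ⟶ Spec (CommRingCat.of A))
    (hξ : ∀ pt, ξ pt = IsLocalRing.closedPoint A) [ConnectedSpace ↥(pullback f ξ)] :
    (FEt.restrict f).Full ∧ (FEt.restrict f).Faithful := by
  apply H9FE.restrict_full_faithful_of_clopen f
  · intro Y T hT hpre
    exact clopen_inj A K f ξ hξ Y.hom Y.prop.1 T hT hpre
  · intro W T' hT'
    exact clopen_surj A K f ξ hξ W.hom W.prop.1 T' hT'

end Sch

end Groth.Agent.Helper7.FEtLoc
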